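import Groth.Agent.SmDiff.Alg
import Mathlib

/-!
A function with unimodular differential on a formally smooth algebra gives a formally smooth map to the multiplicative group.
-/

set_option autoImplicit false
set_option linter.style.haveILetI false
set_option linter.unusedSectionVars false

universe u

open TensorProduct KaehlerDifferential Polynomial

noncomputable section

namespace Groth.Agent.SmToGm

variable {k : Type u} [Field k] {Q : Type u} [CommRing Q] [Algebra k Q] [Algebra k[X] Q] [IsScalarTower k k[X] Q]

/-- The base change of the differentials of the affine line is spanned by one element. -/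
theorem exists_tmul_D_X (z : Q ⊗[k[X]] Ω[k[X]⁄k]) : ∃ c : Q, z = c ⊗ₜ D k k[X] X := by
  induction z using TensorProduct.induction_on with
  | zero => exact ⟨0, (TensorProduct.zero_tmul _ _).symm⟩
  | tmul q w =>
    refine ⟨q * algebraMap k[X] Q (polynomialEquiv k w), ?_⟩
    conv_lhs => rw [← (polynomialEquiv k).symm_apply_apply w, polynomialEquiv_symm]
    rw [TensorProduct.tmul_smul, TensorProduct.smul_tmul', Algebra.smul_def, mul_comm]
  | add a b ha hb =>
    obtain ⟨c, rfl⟩ := ha
    obtain ⟨c', rfl⟩ := hb
    exact ⟨c + c', (TensorProduct.add_tmul _ _ _).symm⟩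

/-- Unimodular differential: formally smooth over the affine line. -/
theorem formallySmooth_polynomial [Algebra.FormallySmooth k Q] (lam : Ω[Q⁄k] →ₗ[Q] Q)
    (h : IsUnit (lam (D k Q (algebraMap k[X] Q X)))) : Algebra.FormallySmooth k[X] Q := by
  let v := D k Q (algebraMap k[X] Q X)
  obtain ⟨u, hu⟩ := h.exists_left_inv
  have hm : ∀ c : Q, mapBaseChange k k[X] Q (c ⊗ₜ D k k[X] X) = c • v := fun c => by
    rw [mapBaseChange_tmul, map_D]
  have hinj : Function.Injective (mapBaseChange k k[X] Q) := by
    refine (injective_iff_map_eq_zero _).2 fun z hz => ?_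
    obtain ⟨c, rfl⟩ := exists_tmul_D_X z
    rw [hm] at hz
    have h1 := congrArg lam hz
    rw [map_smul, map_zero, smul_eq_mul] at h1
    have h2 : c = 0 := by
      calc c = u * (c * lam v) := by rw [← mul_left_comm, hu, mul_one]
        _ = 0 := by rw [h1, mul_zero]
    rw [h2, TensorProduct.zero_tmul]
  let π : Ω[Q⁄k] →ₗ[Q] Ω[Q⁄k[X]] := KaehlerDifferential.map k k[X] Q Q
  let e : Ω[Q⁄k] →ₗ[Q] Ω[Q⁄k] := LinearMap.id - (u • lam).smulRight v
  have hπ : Function.Surjective π := KaehlerDifferential.map_surjective k k[X] Q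
  have hker : LinearMap.ker π ≤ LinearMap.ker e := by
    intro w hw
    obtain ⟨z, rfl⟩ := (exact_mapBaseChange_map k k[X] Q w).1 hw
    obtain ⟨c, rfl⟩ := exists_tmul_D_X z
    rw [hm]
    have h2 : u * lam v = 1 := hu
    simp [e, LinearMap.mem_ker, h2]
  let σ : Ω[Q⁄k[X]] →ₗ[Q] Ω[Q⁄k] :=
    (LinearMap.ker π).liftQ e hker ∘ₗ (π.quotKerEquivOfSurjective hπ).symm.toLinearMap
  have hσ : π ∘ₗ σ = LinearMap.id := by
    refine LinearMap.ext fun y => ?_
    obtain ⟨w, rfl⟩ := hπ y
    have h1 : (π.quotKerEquivOfSurjective hπ).symm (π w) = Submodule.Quotient.mk w :=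
      (LinearEquiv.symm_apply_eq _).2 rfl
    have h3 : π v = 0 := by
      rw [← one_smul Q v, ← hm 1]
      exact (exact_mapBaseChange_map k k[X] Q _).2 ⟨_, rfl⟩
    simp [σ, h1, e, h3]
  haveI : Module.Projective Q Ω[Q⁄k[X]] := Module.Projective.of_split σ π hσ
  exact SmDiff.formallySmooth_of_injective k k[X] Q hinj

omit [Algebra k[X] Q] [IsScalarTower k k[X] Q]

/-- Unimodular differential of an invertible function: formally smooth over the multiplicative group. -/
theorem formallySmooth_laurent [Algebra.FormallySmooth k Q] [Algebra (LaurentPolynomial k) Q]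
    [IsScalarTower k (LaurentPolynomial k) Q] (lam : Ω[Q⁄k] →ₗ[Q] Q)
    (h : IsUnit (lam (D k Q (algebraMap (LaurentPolynomial k) Q (LaurentPolynomial.T 1))))) :
    Algebra.FormallySmooth (LaurentPolynomial k) Q := by
  letI : Algebra k[X] Q := ((algebraMap (LaurentPolynomial k) Q).comp (algebraMap k[X] (LaurentPolynomial k))).toAlgebra
  haveI : IsScalarTower k[X] (LaurentPolynomial k) Q := IsScalarTower.of_algebraMap_eq' rfl
  haveI : IsScalarTower k k[X] (LaurentPolynomial k) := IsScalarTower.of_algebraMap_eq fun c => by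
    rw [LaurentPolynomial.algebraMap_eq_toLaurent, Polynomial.algebraMap_eq, Polynomial.toLaurent_C]
    rfl
  haveI : IsScalarTower k k[X] Q := IsScalarTower.of_algebraMap_eq fun c => by
    rw [IsScalarTower.algebraMap_apply k (LaurentPolynomial k) Q,
      IsScalarTower.algebraMap_apply k[X] (LaurentPolynomial k) Q,
      ← IsScalarTower.algebraMap_apply k k[X] (LaurentPolynomial k)]
  haveI : Algebra.FormallySmooth k[X] Q := by
    refine formallySmooth_polynomial lam ?_
    rw [IsScalarTower.algebraMap_apply k[X] (LaurentPolynomial k) Q, LaurentPolynomial.algebraMap_eq_toLaurent,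
      Polynomial.toLaurent_X]
    exact h
  haveI : Algebra.FormallyUnramified k[X] (LaurentPolynomial k) :=
    Algebra.FormallyUnramified.of_isLocalization (Submonoid.powers (X : k[X]))
  exact Algebra.FormallySmooth.of_restrictScalars (R := k[X]) (A := LaurentPolynomial k) (B := Q)

end Groth.Agent.SmToGm

end
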