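import Groth.Agent.SmToGm.Affine
import Groth.Agent.SmToGm.Unimod
import Mathlib

/-!
A morphism to the multiplicative group, smooth on the smooth locus near a point.
-/

set_option autoImplicit false
set_option linter.style.haveILetI false
set_option linter.unusedSectionVars false

universe u

open CategoryTheory CategoryTheory.Limits AlgebraicGeometry TopologicalSpace Opposite KaehlerDifferential

noncomputable section

namespace Groth.Agent.SmToGm

/-- Algebraic form. -/
theorem exists_laurent {k : Type u} [Field k] [Infinite k] (A : Type u) [CommRing A] [Algebra k A]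
    [Algebra.FiniteType k A] (p : PrimeSpectrum A) (hp : ¬ IsOpen ({p} : Set (PrimeSpectrum A))) :
    ∃ (t : A) (ψ : LaurentPolynomial k →+* Localization.Away t),
      t ∉ p.asIdeal ∧ ψ.comp (algebraMap k (LaurentPolynomial k)) = algebraMap k (Localization.Away t) ∧
      (letI := ψ.toAlgebra
      ∀ (q : Ideal (Localization.Away t)) [q.IsPrime], Algebra.IsSmoothAt k (q.under A) →
        Algebra.IsSmoothAt (LaurentPolynomial k) q) := by
  classical
  obtain ⟨n, Φ, hΦ⟩ := Algebra.FiniteType.iff_quotient_mvPolynomial''.1 ‹Algebra.FiniteType k A›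
  obtain ⟨e, h, hnp, hmain⟩ := exists_function (k := k) (fun i => Φ (MvPolynomial.X i))
    (by rwa [show (MvPolynomial.aeval fun i => Φ (MvPolynomial.X i)) = Φ from MvPolynomial.algHom_ext fun i => by simp])
    p hp
  let A' := Localization.Away (e * h)
  have hu : IsUnit (algebraMap A A' h) :=
    isUnit_of_mul_isUnit_right (x := algebraMap A A' e) (by
      rw [← map_mul]; exact IsLocalization.Away.algebraMap_isUnit (e * h))
  let ψ : LaurentPolynomial k →+* A' := LaurentPolynomial.eval₂ (algebraMap k A') hu.unit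
  have hψk : ψ.comp (algebraMap k (LaurentPolynomial k)) = algebraMap k A' := RingHom.ext fun c => by
    show ψ (algebraMap k (LaurentPolynomial k) c) = _
    rw [show algebraMap k (LaurentPolynomial k) c = LaurentPolynomial.C c from rfl]
    exact LaurentPolynomial.eval₂_C _ _ c
  refine ⟨e * h, ψ, hnp, hψk, ?_⟩
  letI := ψ.toAlgebra
  haveI : IsScalarTower k (LaurentPolynomial k) A' := IsScalarTower.of_algebraMap_eq' hψk.symm
  intro q _ hsm
  haveI := hsm
  let Q := Localization.AtPrime q
  haveI hloc : IsLocalization.AtPrime Q (q.under A) :=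
    IsLocalization.isLocalization_isLocalization_atPrime_isLocalization (Submonoid.powers (e * h)) Q q
  haveI : Algebra.FormallySmooth k Q :=
    (Algebra.FormallySmooth.iff_of_equiv
      ((IsLocalization.algEquiv (q.under A).primeCompl (Localization.AtPrime (q.under A)) Q).restrictScalars k)).1 hsm
  have hq : e * h ∉ q.under A := fun hh => (Ideal.IsPrime.ne_top inferInstance)
    (Ideal.eq_top_of_isUnit_mem q hh (IsLocalization.Away.algebraMap_isUnit (e * h)))
  obtain ⟨lam, hlam⟩ := hmain (q.under A) hq hsm Q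
  haveI : IsScalarTower k (LaurentPolynomial k) Q := IsScalarTower.of_algebraMap_eq fun c => by
    rw [IsScalarTower.algebraMap_apply k A' Q, IsScalarTower.algebraMap_apply k (LaurentPolynomial k) A',
      ← IsScalarTower.algebraMap_apply (LaurentPolynomial k) A' Q]
  refine formallySmooth_laurent lam ?_
  have hT : algebraMap (LaurentPolynomial k) Q (LaurentPolynomial.T 1) = algebraMap A Q h := by
    rw [IsScalarTower.algebraMap_apply (LaurentPolynomial k) A' Q, IsScalarTower.algebraMap_apply A A' Q]
    congr 1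
    show ψ (LaurentPolynomial.T 1) = _
    simp [ψ]
  rw [hT]
  exact hlam

/-- Smooth at a point implies smooth near it. -/
theorem mem_smoothLocus_specMap {R B : Type u} [CommRing R] [CommRing B] [Algebra R B]
    [Algebra.FinitePresentation R B] (q : PrimeSpectrum B) (hq : Algebra.IsSmoothAt R q.asIdeal)
    [LocallyOfFinitePresentation (Spec.map (CommRingCat.ofHom (algebraMap R B)))] :
    (q : ↥(Spec (CommRingCat.of B))) ∈ (Spec.map (CommRingCat.ofHom (algebraMap R B))).smoothLocus := by
  haveI := hq
  obtain ⟨g, hg, hgs⟩ := Algebra.IsSmoothAt.exists_notMem_smooth R q.asIdeal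
  let j := Spec.map (CommRingCat.ofHom (algebraMap B (Localization.Away g)))
  haveI : IsOpenImmersion j := IsOpenImmersion.of_isLocalization g
  haveI : Smooth (j ≫ Spec.map (CommRingCat.ofHom (algebraMap R B))) := by
    rw [← Spec.map_comp, HasRingHomProperty.Spec_iff (P := @Smooth), ← CommRingCat.ofHom_comp,
      CommRingCat.hom_ofHom, ← IsScalarTower.algebraMap_eq, RingHom.smooth_algebraMap]
    exact hgs
  have hmem : q ∈ Set.range (PrimeSpectrum.comap (algebraMap B (Localization.Away g))) := by
    rw [PrimeSpectrum.localization_away_comap_range (Localization.Away g) g]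
    exact hg
  obtain ⟨q', hq'⟩ := hmem
  have h1 : (q' : ↥(Spec (CommRingCat.of (Localization.Away g)))) ∈
      j ⁻¹ᵁ (Spec.map (CommRingCat.ofHom (algebraMap R B))).smoothLocus := by
    rw [Scheme.Hom.preimage_smoothLocus_eq, Scheme.Hom.smoothLocus_eq_top]
    trivial
  rw [← hq']
  exact h1

/-- Smoothness at a point of an affine chart lying in a smooth open. -/
theorem isSmoothAt_of_mem {k : Type u} [Field k] {X : Scheme.{u}} (f : X ⟶ Spec (CommRingCat.of k)) (U : X.Opens)
    [Smooth (U.ι ≫ f)] {A : CommRingCat.{u}} [Algebra k A] [Algebra.FiniteType k A] (i : Spec A ⟶ X)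
    [IsOpenImmersion i] (hi : i ≫ f = Spec.map (CommRingCat.ofHom (algebraMap k A))) (q : PrimeSpectrum A)
    (hq : i q ∈ U) : Algebra.IsSmoothAt k q.asIdeal := by
  haveI : Algebra.FinitePresentation k A := Algebra.FinitePresentation.of_finiteType.1 inferInstance
  obtain ⟨_, ⟨_, ⟨t, rfl⟩, rfl⟩, hqt, htU⟩ := PrimeSpectrum.isBasis_basic_opens.exists_subset_of_mem_open
    (show q ∈ (i ⁻¹ᵁ U : (Spec A).Opens) from hq) (i ⁻¹ᵁ U).2
  refine (Algebra.basicOpen_subset_smoothLocus_iff (R := k) (f := t)).2 ?_ hqt
  let j := Spec.map (CommRingCat.ofHom (algebraMap A (Localization.Away t)))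
  haveI : IsOpenImmersion j := IsOpenImmersion.of_isLocalization t
  have hrange : Set.range (j ≫ i) ⊆ Set.range U.ι := by
    rintro _ ⟨w, rfl⟩
    rw [Scheme.Opens.range_ι]
    refine htU ?_
    have : PrimeSpectrum.comap (algebraMap A (Localization.Away t)) w ∈
        (PrimeSpectrum.basicOpen t : Set (PrimeSpectrum A)) := by
      rw [← PrimeSpectrum.localization_away_comap_range (Localization.Away t) t]; exact ⟨w, rfl⟩
    exact this
  let g := IsOpenImmersion.lift U.ι (j ≫ i) hrange
  have hg : g ≫ U.ι = j ≫ i := IsOpenImmersion.lift_fac _ _ _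
  haveI : IsOpenImmersion (g ≫ U.ι) := by rw [hg]; infer_instance
  haveI : IsOpenImmersion g := IsOpenImmersion.of_comp g U.ι
  have h1 : Smooth (g ≫ U.ι ≫ f) := inferInstance
  rw [reassoc_of% hg, hi, ← Spec.map_comp, HasRingHomProperty.Spec_iff (P := @Smooth),
    ← CommRingCat.ofHom_comp, CommRingCat.hom_ofHom, ← IsScalarTower.algebraMap_eq, RingHom.smooth_algebraMap] at h1
  exact h1.formallySmooth

/-- The morphism to the multiplicative group. -/
theorem exists_smooth_toGm {k : Type u} [Field k] [Infinite k] (X : Scheme.{u}) (f : X ⟶ Spec (CommRingCat.of k))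
    [LocallyOfFiniteType f] (U : X.Opens) [Smooth (U.ι ≫ f)] (x : X) (hx : x ∈ U → ¬ IsOpen ({x} : Set X)) :
    ∃ (V : X.Opens) (v : (↑V : Scheme.{u}) ⟶ Spec (CommRingCat.of (LaurentPolynomial k))), x ∈ V ∧
      v ≫ Spec.map (CommRingCat.ofHom (algebraMap k (LaurentPolynomial k))) = V.ι ≫ f ∧
        Smooth (X.homOfLE (inf_le_left : V ⊓ U ≤ V) ≫ v) := by
  by_cases hopen : IsOpen ({x} : Set X)
  · let V : X.Opens := ⟨{x}, hopen⟩
    let one : LaurentPolynomial k →+* k := LaurentPolynomial.eval₂ (RingHom.id k) 1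
    refine ⟨V, V.ι ≫ f ≫ Spec.map (CommRingCat.ofHom one), rfl, ?_, ?_⟩
    · rw [Category.assoc, Category.assoc, ← Spec.map_comp, ← CommRingCat.ofHom_comp,
        show one.comp (algebraMap k (LaurentPolynomial k)) = RingHom.id k from RingHom.ext fun c =>
          LaurentPolynomial.eval₂_C _ _ c, CommRingCat.ofHom_id, Spec.map_id, Category.comp_id]
    · haveI : IsEmpty ↥((V ⊓ U : X.Opens) : Scheme.{u}) := ⟨fun ⟨y, hyV, hyU⟩ =>
        hx ((show y = x from hyV) ▸ hyU) hopen⟩
      infer_instance
  obtain ⟨W, hW, hxW, -⟩ := exists_isAffineOpen_mem_and_subset (X := X) (x := x) (U := ⊤) trivial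
  let φ : CommRingCat.of k ⟶ Γ(X, W) := Spec.preimage (hW.fromSpec ≫ f)
  letI : Algebra k Γ(X, W) := φ.hom.toAlgebra
  have hi : hW.fromSpec ≫ f = Spec.map (CommRingCat.ofHom (algebraMap k Γ(X, W))) := (Spec.map_preimage _).symm
  haveI : Algebra.FiniteType k Γ(X, W) := by
    have h1 : LocallyOfFiniteType (hW.fromSpec ≫ f) := inferInstance
    rw [hi, HasRingHomProperty.Spec_iff (P := @LocallyOfFiniteType)] at h1
    exact RingHom.finiteType_algebraMap.1 h1
  let p : PrimeSpectrum Γ(X, W) := hW.primeIdealOf ⟨x, hxW⟩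
  have hp : ¬ IsOpen ({p} : Set (PrimeSpectrum Γ(X, W))) := fun h => hopen (by
    have := hW.fromSpec.isOpenEmbedding.isOpenMap _ h
    have h2 : ⇑hW.fromSpec '' ({p} : Set (PrimeSpectrum Γ(X, W))) = {x} :=
      Set.image_singleton.trans (congrArg (fun y : X => ({y} : Set X)) (hW.fromSpec_primeIdealOf ⟨x, hxW⟩))
    exact h2 ▸ this)
  obtain ⟨t, ψ, htp, hψ, hsmooth⟩ := exists_laurent (k := k) Γ(X, W) p hp
  let A' := Localization.Away t
  letI := ψ.toAlgebra
  haveI : IsScalarTower k (LaurentPolynomial k) A' := IsScalarTower.of_algebraMap_eq' hψ.symm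
  haveI : Algebra.FinitePresentation k Γ(X, W) := Algebra.FinitePresentation.of_finiteType.1 inferInstance
  haveI : Algebra.FinitePresentation k A' := by
    haveI : Algebra.FinitePresentation Γ(X, W) A' := IsLocalization.Away.finitePresentation t
    exact Algebra.FinitePresentation.trans k Γ(X, W) A'
  haveI : Algebra.FiniteType k (LaurentPolynomial k) := by
    haveI : Algebra.FiniteType (Polynomial k) (LaurentPolynomial k) :=
      IsLocalization.finiteType_of_monoid_fg (Submonoid.powers (Polynomial.X : Polynomial k)) _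
    haveI : IsScalarTower k (Polynomial k) (LaurentPolynomial k) := IsScalarTower.of_algebraMap_eq fun c => by
      rw [LaurentPolynomial.algebraMap_eq_toLaurent, Polynomial.algebraMap_eq, Polynomial.toLaurent_C]; rfl
    exact Algebra.FiniteType.trans (S := Polynomial k) inferInstance inferInstance
  haveI : Algebra.FinitePresentation (LaurentPolynomial k) A' :=
    Algebra.FinitePresentation.of_restrict_scalars_finitePresentation k (LaurentPolynomial k) A'
  let j : Spec (CommRingCat.of A') ⟶ Spec Γ(X, W) := Spec.map (CommRingCat.ofHom (algebraMap Γ(X, W) A'))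
  haveI : IsOpenImmersion j := IsOpenImmersion.of_isLocalization t
  let ι := j ≫ hW.fromSpec
  let w := Spec.map (CommRingCat.ofHom ψ)
  refine ⟨ι.opensRange, ι.isoOpensRange.inv ≫ w, ?_, ?_, ?_⟩
  · have hmem : p ∈ Set.range (PrimeSpectrum.comap (algebraMap Γ(X, W) A')) := by
      rw [PrimeSpectrum.localization_away_comap_range A' t]
      exact htp
    obtain ⟨p', hp'⟩ := hmem
    refine ⟨p', ?_⟩
    show hW.fromSpec (j p') = x
    rw [show j p' = p from hp']
    exact hW.fromSpec_primeIdealOf ⟨x, hxW⟩
  · rw [← cancel_epi ι.isoOpensRange.hom]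
    simp only [Category.assoc, Iso.hom_inv_id_assoc]
    rw [← Spec.map_comp, ← CommRingCat.ofHom_comp, hψ, Scheme.Hom.isoOpensRange_hom_ι_assoc, Category.assoc, hi,
      ← Spec.map_comp, ← CommRingCat.ofHom_comp, ← IsScalarTower.algebraMap_eq]
  · let i := X.homOfLE (inf_le_left : ι.opensRange ⊓ U ≤ ι.opensRange) ≫ ι.isoOpensRange.inv
    haveI : LocallyOfFinitePresentation w := by
      rw [HasRingHomProperty.Spec_iff (P := @LocallyOfFinitePresentation)]
      exact RingHom.finitePresentation_algebraMap.2 inferInstance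
    haveI : IsOpenImmersion i := inferInstance
    rw [← Category.assoc]
    show Smooth (i ≫ w)
    rw [← Scheme.Hom.smoothLocus_eq_top_iff, ← Scheme.Hom.preimage_smoothLocus_eq]
    refine eq_top_iff.2 fun y _ => ?_
    show i y ∈ w.smoothLocus
    have hy : ι (i y) ∈ U := by
      have h1 : (i ≫ ι) = (ι.opensRange ⊓ U).ι := by
        simp only [i, Category.assoc, Scheme.Hom.isoOpensRange_inv_comp, Scheme.homOfLE_ι]
      have h2 : ι (i y) = (ι.opensRange ⊓ U).ι y := by rw [← h1]; rfl
      rw [h2]
      exact y.2.2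
    let Y : PrimeSpectrum A' := i y
    refine mem_smoothLocus_specMap (R := LaurentPolynomial k) (B := A') Y (hsmooth Y.asIdeal ?_)
    exact isSmoothAt_of_mem f U hW.fromSpec hi (PrimeSpectrum.comap (algebraMap Γ(X, W) A') Y) hy

end Groth.Agent.SmToGm

end
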