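import Groth.Agent.SmToGm.Param
import Groth.Agent.HypSec.LinFamily
import Mathlib

/-!
A general linear function has finitely many critical points on the smooth locus, avoiding a given non-isolated point.
-/

set_option autoImplicit false
set_option linter.style.haveILetI false
set_option linter.unusedSectionVars false

universe u

open MvPolynomial KaehlerDifferential TensorProduct

noncomputable section

namespace Groth.Agent.SmToGm

variable {k : Type u} [Field k] {A : Type u} [CommRing A] [Algebra k A] {n : ℕ} (x : Fin n → A)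
  (hx : Function.Surjective (MvPolynomial.aeval x : MvPolynomial (Fin n) k →ₐ[k] A))
  (G : A) {T : Type u} [CommRing T] [Algebra k T] [Algebra A T] [IsScalarTower k A T] [IsLocalization.Away G T]
  {d : ℕ} (b : Module.Basis (Fin d) T (Ω[T⁄k]))

/-- The coordinates of the differentials of the generators. -/
def coordMat : Matrix (Fin d) (Fin n) T := Matrix.of fun l i => b.repr (D k T (algebraMap A T (x i))) l

/-- The coordinates of the differential of a linear function. -/
def coord (a : Fin n → k) (l : Fin d) : T := ∑ i, algebraMap k T (a i) * coordMat x b l i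

theorem repr_D (a : Fin n → k) (c : k) (l : Fin d) :
    b.repr (D k T (algebraMap A T ((∑ i, algebraMap k A (a i) * x i) + algebraMap k A c))) l = coord x b a l := by
  simp [coord, coordMat, ← IsScalarTower.algebraMap_apply k A T, Finsupp.coe_finsetSum]
  refine Finset.sum_congr rfl fun i _ => ?_
  rw [algebra_compatible_smul T (a i), map_smul, Finsupp.smul_apply, smul_eq_mul]

include hx G in
/-- The differentials of the generators span. -/
theorem span_D_eq_top : Submodule.span T (Set.range fun i => D k T (algebraMap A T (x i))) = ⊤ := by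
  let N := Submodule.span T (Set.range fun i => D k T (algebraMap A T (x i)))
  have hA : ∀ z : A, D k T (algebraMap A T z) ∈ N := by
    intro z
    obtain ⟨P, rfl⟩ := hx z
    induction P using MvPolynomial.induction_on with
    | C c => simp [← IsScalarTower.algebraMap_apply k A T]
    | add p q hp hq => rw [map_add, map_add, map_add]; exact N.add_mem hp hq
    | mul_X q i hq =>
      rw [map_mul, map_mul, Derivation.leibniz, aeval_X]
      exact N.add_mem (N.smul_mem _ (Submodule.subset_span ⟨i, rfl⟩)) (N.smul_mem _ hq)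
  rw [eq_top_iff, ← span_range_derivation k T, Submodule.span_le]
  rintro _ ⟨y, rfl⟩
  obtain ⟨⟨z, s⟩, hz⟩ := IsLocalization.surj (Submonoid.powers G) y
  have h1 : D k T (y * algebraMap A T s) ∈ N := by rw [hz]; exact hA z
  rw [Derivation.leibniz] at h1
  have h2 : algebraMap A T s • D k T y ∈ N := (N.add_mem_iff_right (N.smul_mem _ (hA s))).1 h1
  exact (N.smul_mem_iff_of_isUnit (IsLocalization.map_units T s)).1 h2

include hx G in
/-- Near every point some of the generators form coordinates. -/
theorem exists_cols (Q : Ideal T) [Q.IsPrime] :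
    ∃ cols : Fin d → Fin n, ((coordMat x b).submatrix id cols).det ∉ Q := by
  let φ : T →+* Q.ResidueField := algebraMap T Q.ResidueField
  obtain ⟨cols, hcols⟩ := HypSec.exists_minor ((coordMat x b).map φ) fun f hf => by
    have hker : ∀ w : Ω[T⁄k], f (fun l => φ (b.repr w l)) = 0 := by
      intro w
      have hw : w ∈ Submodule.span T (Set.range fun i => D k T (algebraMap A T (x i))) :=
        (span_D_eq_top x hx G (T := T)).symm ▸ Submodule.mem_top
      induction hw using Submodule.span_induction with
      | mem w hw =>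
        obtain ⟨i, rfl⟩ := hw
        exact hf i
      | zero => simp [← Pi.zero_def]
      | add w w' _ _ h h' =>
        have : (fun l => φ (b.repr (w + w') l)) = (fun l => φ (b.repr w l)) + fun l => φ (b.repr w' l) := by
          funext l; simp
        rw [this, map_add, h, h', add_zero]
      | smul r w _ h =>
        have : (fun l => φ (b.repr (r • w) l)) = φ r • fun l => φ (b.repr w l) := by
          funext l; simp
        rw [this, map_smul, h, smul_zero]
    refine LinearMap.pi_ext' fun l => LinearMap.ext_ring ?_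
    have h1 := hker (b l)
    have h2 : (fun l' => φ (b.repr (b l) l')) = Pi.single l 1 := by
      funext l'
      rw [b.repr_self, Finsupp.single_apply, Pi.single_apply]
      split_ifs with h h' h'
      · exact map_one φ
      · exact absurd h.symm h'
      · exact absurd h'.symm h
      · exact map_zero φ
    rw [h2] at h1
    simpa using h1
  refine ⟨cols, fun h => hcols.ne_zero ?_⟩
  have h3 : ((coordMat x b).map φ).submatrix id cols = φ.mapMatrix ((coordMat x b).submatrix id cols) := rfl
  rw [h3, ← RingHom.map_det]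
  exact Ideal.algebraMap_residueField_eq_zero.2 h

/-- The critical points of a linear function on a piece. -/
def crit (a : Fin n → k) : Set (PrimeSpectrum A) :=
  PrimeSpectrum.comap (algebraMap A T) '' {Q | ∀ l, coord x b a l ∈ Q.asIdeal}

include hx G in
/-- General linear functions have finitely many critical points, all closed. -/
theorem piece_bound [Algebra.FiniteType k T] (hd : ringKrullDim T ≤ d) :
    ∃ g : MvPolynomial (Fin n) k, g ≠ 0 ∧ ∀ a : Fin n → k, eval a g ≠ 0 →
      (crit x b a).Finite ∧ ∀ q ∈ crit x b a, q.asIdeal.IsMaximal := by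
  classical
  let δ : (Fin d → Fin n) → T := fun cols => ((coordMat x b).submatrix id cols).det
  have H : ∀ cols, ∃ g : MvPolynomial (Fin n) k, g ≠ 0 ∧ ∀ a : Fin n → k, eval a g ≠ 0 →
      Module.Finite k (Localization.Away (δ cols) ⧸
        Ideal.span (Set.range fun l => ∑ i, algebraMap k (Localization.Away (δ cols)) (a i) *
          (coordMat x b).map (algebraMap T (Localization.Away (δ cols))) l i)) := by
    intro cols
    let T' := Localization.Away (δ cols)
    haveI : Algebra.FiniteType k T' := Algebra.FiniteType.trans (S := T) inferInstance inferInstance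
    refine exists_bound_finite (k := k) ((HypSec.ringKrullDim_away_le _).trans hd)
      ((coordMat x b).map (algebraMap T T')) cols ?_
    have : (((coordMat x b).map (algebraMap T T')).submatrix id cols).det = algebraMap T T' (δ cols) :=
      (RingHom.map_det (algebraMap T T') _).symm
    rw [this]
    exact IsLocalization.Away.algebraMap_isUnit _
  choose g hg0 hg using H
  refine ⟨∏ cols, g cols, Finset.prod_ne_zero_iff.2 fun cols _ => hg0 cols, fun a ha => ?_⟩
  rw [map_prod, Finset.prod_ne_zero_iff] at ha
  have hfin := fun cols => hg cols a (ha cols (Finset.mem_univ _))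
  let R' : (Fin d → Fin n) → Type u := fun cols => Localization.Away (δ cols) ⧸
        Ideal.span (Set.range fun l => ∑ i, algebraMap k (Localization.Away (δ cols)) (a i) *
          (coordMat x b).map (algebraMap T (Localization.Away (δ cols))) l i)
  haveI : ∀ cols, Module.Finite k (R' cols) := hfin
  haveI : ∀ cols, IsArtinianRing (R' cols) := fun cols => IsArtinianRing.of_finite k (R' cols)
  let χ : ∀ cols, A →ₐ[k] R' cols := fun cols =>
    ((Ideal.Quotient.mkₐ k _).comp (IsScalarTower.toAlgHom k T _)).comp (IsScalarTower.toAlgHom k A T)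
  have hsub : crit x b a ⊆ ⋃ cols, Set.range (PrimeSpectrum.comap (χ cols).toRingHom) := by
    rintro _ ⟨Q, hQ, rfl⟩
    obtain ⟨cols, hcols⟩ := exists_cols x hx G b Q.asIdeal
    refine Set.mem_iUnion.2 ⟨cols, ?_⟩
    let T' := Localization.Away (δ cols)
    obtain ⟨Q', hQ'⟩ : ∃ Q' : PrimeSpectrum T', PrimeSpectrum.comap (algebraMap T T') Q' = Q := by
      have h1 : Q ∈ (PrimeSpectrum.basicOpen (δ cols) : Set (PrimeSpectrum T)) := hcols
      rwa [← PrimeSpectrum.localization_away_comap_range T' (δ cols)] at h1
    let J := Ideal.span (Set.range fun l => ∑ i, algebraMap k T' (a i) *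
          (coordMat x b).map (algebraMap T T') l i)
    have hJ : J ≤ Q'.asIdeal := by
      refine Ideal.span_le.2 ?_
      rintro _ ⟨l, rfl⟩
      have h2 : coord x b a l ∈ (PrimeSpectrum.comap (algebraMap T T') Q').asIdeal := by rw [hQ']; exact hQ l
      have h3 : algebraMap T T' (coord x b a l) ∈ Q'.asIdeal := h2
      simp only [coord, map_sum, map_mul, ← IsScalarTower.algebraMap_apply] at h3
      exact h3
    haveI : (Q'.asIdeal.map (Ideal.Quotient.mk J)).IsPrime :=
      Ideal.map_isPrime_of_surjective Ideal.Quotient.mk_surjective (by rw [Ideal.mk_ker]; exact hJ)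
    refine ⟨⟨Q'.asIdeal.map (Ideal.Quotient.mk J), inferInstance⟩, ?_⟩
    rw [← hQ']
    apply PrimeSpectrum.ext
    show Ideal.comap ((Ideal.Quotient.mk J).comp ((algebraMap T T').comp (algebraMap A T)))
      (Q'.asIdeal.map (Ideal.Quotient.mk J)) = (Q'.asIdeal.comap (algebraMap T T')).comap (algebraMap A T)
    rw [← Ideal.comap_comap, ← Ideal.comap_comap,
      Ideal.comap_map_of_surjective _ Ideal.Quotient.mk_surjective, ← RingHom.ker_eq_comap_bot, Ideal.mk_ker,
      sup_eq_left.2 hJ]
  refine ⟨(Set.finite_iUnion fun cols => Set.finite_range _).subset hsub, fun q hq => ?_⟩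
  obtain ⟨cols, P, rfl⟩ := Set.mem_iUnion.1 (hsub hq)
  haveI : P.asIdeal.IsMaximal := Ideal.IsPrime.isMaximal' inferInstance
  refine Ideal.isMaximal_comap_of_isIntegral_of_isMaximal' _ (fun r => ?_) P.asIdeal
  obtain ⟨p, hp, hp'⟩ := Algebra.IsIntegral.isIntegral (R := k) r
  refine ⟨p.map (algebraMap k A), hp.map _, ?_⟩
  rw [Polynomial.eval₂_map, show ((χ cols).toRingHom.comp (algebraMap k A)) = algebraMap k (R' cols) from
    (χ cols).comp_algebraMap]
  exact hp'

include hx G in
/-- A point with positive-dimensional differentials is not critical for a general linear function. -/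
theorem point_bound (hd : 0 < d) (Q : Ideal T) [Q.IsPrime] :
    ∃ g : MvPolynomial (Fin n) k, g ≠ 0 ∧ ∀ a : Fin n → k, eval a g ≠ 0 → ∃ l, coord x b a l ∉ Q := by
  classical
  obtain ⟨cols, hcols⟩ := exists_cols x hx G b Q
  let l₀ : Fin d := ⟨0, hd⟩
  obtain ⟨l, hl⟩ : ∃ l, coordMat x b l (cols l₀) ∉ Q := by
    by_contra hh
    push Not at hh
    refine hcols (Ideal.Quotient.eq_zero_iff_mem.1 ?_)
    rw [RingHom.map_det]
    exact Matrix.det_eq_zero_of_column_eq_zero l₀ fun l => Ideal.Quotient.eq_zero_iff_mem.2 (hh l)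
  let N : Submodule k (Fin n → k) :=
    { carrier := {a | coord x b a l ∈ Q}
      add_mem' := fun {a a'} h h' => by
        show coord x b (a + a') l ∈ Q
        have : coord x b (a + a') l = coord x b a l + coord x b a' l := by
          simp [coord, add_mul, Finset.sum_add_distrib]
        rw [this]; exact Q.add_mem h h'
      zero_mem' := by simp [coord]
      smul_mem' := fun c a h => by
        show coord x b (c • a) l ∈ Q
        have : coord x b (c • a) l = algebraMap k T c * coord x b a l := by
          simp [coord, Finset.mul_sum, mul_assoc]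
        rw [this]; exact Q.mul_mem_left _ h }
  have hN : N < ⊤ := by
    refine lt_top_iff_ne_top.2 fun h => hl ?_
    have h1 : coord x b (Pi.single (cols l₀) 1) l ∈ Q := (h.symm ▸ Submodule.mem_top : Pi.single (cols l₀) 1 ∈ N)
    simpa [coord, Pi.single_apply, apply_ite (algebraMap k T), ite_mul] using h1
  obtain ⟨Λ, hΛ0, hΛ⟩ := Submodule.exists_le_ker_of_lt_top N hN
  refine ⟨∑ i, C (Λ (Pi.single i 1)) * X i, fun h0 => hΛ0 ?_, fun a ha => ⟨l, fun hl' => ha ?_⟩⟩
  · refine LinearMap.pi_ext' fun j => LinearMap.ext_ring ?_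
    have := congrArg (MvPolynomial.coeff (Finsupp.single j 1)) h0
    simpa [MvPolynomial.coeff_sum, MvPolynomial.coeff_C_mul, MvPolynomial.coeff_X, Finsupp.single_left_inj] using this
  · have : eval a (∑ i, C (Λ (Pi.single i 1)) * X i) = Λ a := by
      conv_rhs => rw [← Finset.univ_sum_single a, map_sum]
      refine (map_sum _ _ _).trans (Finset.sum_congr rfl fun i _ => ?_)
      rw [map_mul, eval_C, eval_X, mul_comm, ← smul_eq_mul, ← map_smul, ← Pi.single_smul', smul_eq_mul, mul_one]
    rw [this]
    exact hΛ hl'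

include b in
/-- A point in a zero-dimensional piece is isolated. -/
theorem isOpen_of_dim_zero [Algebra.FiniteType k T] (hd : ringKrullDim T ≤ 0) (p : PrimeSpectrum A)
    (hp : G ∉ p.asIdeal) : IsOpen ({p} : Set (PrimeSpectrum A)) := by
  haveI : IsNoetherianRing T := Algebra.FiniteType.isNoetherianRing k T
  haveI : Ring.KrullDimLE 0 T := Ring.krullDimLE_iff.2 hd
  haveI : IsArtinianRing T := IsNoetherianRing.isArtinianRing_of_krullDimLE_zero
  have h1 : p ∈ Set.range (PrimeSpectrum.comap (algebraMap A T)) := by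
    rw [PrimeSpectrum.localization_away_comap_range T G]
    exact hp
  obtain ⟨P, rfl⟩ := h1
  have h2 := (PrimeSpectrum.localization_away_isOpenEmbedding T G).isOpenMap _ (isOpen_discrete ({P} : Set (PrimeSpectrum T)))
  rwa [Set.image_singleton] at h2

omit [Algebra A T] [IsScalarTower k A T] [IsLocalization.Away G T]

include hx in
/-- A function whose differential is unimodular at the smooth points outside a closed set missing a given point. -/
theorem exists_function [Infinite k] (p : PrimeSpectrum A) (hp : ¬ IsOpen ({p} : Set (PrimeSpectrum A))) :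
    ∃ e h : A, e * h ∉ p.asIdeal ∧ ∀ (q : Ideal A) [q.IsPrime], e * h ∉ q → Algebra.IsSmoothAt k q →
      ∀ (Q : Type u) [CommRing Q] [Algebra k Q] [Algebra A Q] [IsScalarTower k A Q] [IsLocalization.AtPrime Q q],
        ∃ lam : Ω[Q⁄k] →ₗ[Q] Q, IsUnit (lam (D k Q (algebraMap A Q h))) := by
  classical
  haveI : Algebra.FiniteType k A := Algebra.FiniteType.of_surjective (MvPolynomial.aeval x) hx
  haveI : Algebra.FinitePresentation k A := Algebra.FinitePresentation.of_finiteType.1 inferInstance
  haveI : IsNoetherianRing A := Algebra.FiniteType.isNoetherianRing k A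
  let 𝒢 : Set A := {G | ∃ d : ℕ, Algebra.IsStandardSmoothOfRelativeDimension d k (Localization.Away G) ∧
    Nonempty (Module.Basis (Fin d) (Localization.Away G) (Ω[Localization.Away G⁄k]))}
  obtain ⟨s, hs, hspan⟩ := (Submodule.fg_span_iff_fg_span_finset_subset 𝒢).1
    (IsNoetherian.noetherian (Submodule.span A 𝒢))
  have hcover : ∀ (q : Ideal A) [q.IsPrime], Algebra.IsSmoothAt k q → ∃ G ∈ s, G ∉ q := by
    intro q _ hq
    haveI := hq
    obtain ⟨G, hG, hstd⟩ := Algebra.IsSmoothAt.exists_notMem_isStandardSmooth k q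
    by_contra hh
    push Not at hh
    refine hG ((Submodule.span_le.2 hh) (hspan ▸ Submodule.subset_span ?_))
    haveI := hstd
    haveI : Nontrivial (Localization.Away G) := not_subsingleton_iff_nontrivial.1 fun h => by
      obtain ⟨m, hm⟩ := (IsLocalization.subsingleton_iff (M := Submonoid.powers G) (S := Localization.Away G)).1 h
      have hm : G ^ m = 0 := hm
      exact hG (Ideal.IsPrime.mem_of_pow_mem inferInstance m (hm.symm ▸ q.zero_mem))
    obtain ⟨ι, σ, _, hfin, ⟨P⟩⟩ := Algebra.IsStandardSmooth.out (R := k) (S := Localization.Away G)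
    haveI : Fintype ↑(Set.range P.map)ᶜ := Fintype.ofFinite _
    refine ⟨Fintype.card ↑(Set.range P.map)ᶜ, ?_, ⟨P.basisKaehler.reindex (Fintype.equivFin _)⟩⟩
    rw [Algebra.IsStandardSmoothOfRelativeDimension.iff_of_isStandardSmooth, rank_eq_card_basis P.basisKaehler]
  choose dd hstd hb using fun G : {G // G ∈ s} => hs G.2
  let bb := fun G : {G // G ∈ s} => (hb G).some
  have hdim : ∀ G : {G // G ∈ s}, ringKrullDim (Localization.Away G.1) ≤ dd G := fun G =>
    haveI := hstd G
    HypSec.ringKrullDim_le_relDim (k := k) (dd G)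
  haveI : ∀ G : {G // G ∈ s}, Algebra.FiniteType k (Localization.Away G.1) := fun G =>
    Algebra.FiniteType.trans (S := A) inferInstance inferInstance
  choose g hg0 hg using fun G : {G // G ∈ s} => piece_bound x hx G.1 (bb G) (hdim G)
  have H : ∀ G : {G // G ∈ s}, ∃ f : MvPolynomial (Fin n) k, f ≠ 0 ∧
      ∀ a : Fin n → k, eval a f ≠ 0 → p ∉ crit x (bb G) a := by
    intro G
    by_cases hG : G.1 ∈ p.asIdeal
    · refine ⟨1, one_ne_zero, fun a _ => ?_⟩
      rintro ⟨Q, -, hQ⟩
      have : p ∈ (PrimeSpectrum.basicOpen G.1 : Set (PrimeSpectrum A)) := by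
        rw [← PrimeSpectrum.localization_away_comap_range (Localization.Away G.1) G.1]
        exact ⟨Q, hQ⟩
      exact this hG
    have h1 : p ∈ Set.range (PrimeSpectrum.comap (algebraMap A (Localization.Away G.1))) := by
      rw [PrimeSpectrum.localization_away_comap_range (Localization.Away G.1) G.1]
      exact hG
    obtain ⟨P, hP⟩ := h1
    have hpos : 0 < dd G := by
      by_contra h0
      have hd0 : dd G = 0 := by omega
      exact hp (isOpen_of_dim_zero (k := k) G.1 (bb G) (by simpa [hd0] using hdim G) p hG)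
    obtain ⟨f, hf0, hf⟩ := point_bound x hx G.1 (bb G) hpos P.asIdeal
    refine ⟨f, hf0, fun a ha => ?_⟩
    rintro ⟨Q, hQ, hQp⟩
    obtain ⟨l, hl⟩ := hf a ha
    have : Q = P := (PrimeSpectrum.localization_comap_injective (Localization.Away G.1) (Submonoid.powers G.1))
      (hQp.trans hP.symm)
    exact hl (this ▸ hQ l)
  choose f hf0 hf using H
  obtain ⟨a, ha⟩ : ∃ a : Fin n → k, eval a (∏ G, g G * f G) ≠ 0 := by
    by_contra hh
    push Not at hh
    exact Finset.prod_ne_zero_iff.2 (fun G _ => mul_ne_zero (hg0 G) (hf0 G))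
      (MvPolynomial.funext fun a => by rw [hh, map_zero] : (∏ G, g G * f G) = 0)
  rw [map_prod, Finset.prod_ne_zero_iff] at ha
  have ha1 : ∀ G, eval a (g G) ≠ 0 ∧ eval a (f G) ≠ 0 := fun G => by
    simpa [mul_ne_zero_iff] using ha G (Finset.mem_univ _)
  let bad : Set (PrimeSpectrum A) := ⋃ G, crit x (bb G) a
  have hbad : bad.Finite := Set.finite_iUnion fun G => (hg G a (ha1 G).1).1
  have hE : ∀ q ∈ bad, ∃ z : A, z ∈ q.asIdeal ∧ z ∉ p.asIdeal := by
    intro q hq
    obtain ⟨G, hG⟩ := Set.mem_iUnion.1 hq
    haveI := (hg G a (ha1 G).1).2 q hG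
    by_contra hh
    push Not at hh
    have : q.asIdeal = p.asIdeal := Ideal.IsMaximal.eq_of_le inferInstance p.isPrime.ne_top hh
    exact hf G a (ha1 G).2 (PrimeSpectrum.ext this ▸ hG)
  choose! z hz1 hz2 using hE
  let e := ∏ q ∈ hbad.toFinset, z q
  let h0 := ∑ i, algebraMap k A (a i) * x i
  obtain ⟨c, hc⟩ : ∃ c : k, h0 + algebraMap k A c ∉ p.asIdeal := by
    by_cases hh : h0 ∈ p.asIdeal
    · refine ⟨1, fun h1 => p.isPrime.ne_top ((Ideal.eq_top_iff_one _).2 ?_)⟩
      simpa using p.asIdeal.sub_mem h1 hh
    · exact ⟨0, by simpa using hh⟩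
  refine ⟨e, h0 + algebraMap k A c, fun h1 => ?_, fun q _ hq hsm Q _ _ _ _ _ => ?_⟩
  · rcases p.isPrime.mem_or_mem h1 with h1 | h1
    · obtain ⟨q, hq, hq'⟩ := (p.isPrime.prod_mem_iff).1 h1
      exact hz2 q (hbad.mem_toFinset.1 hq) hq'
    · exact hc h1
  obtain ⟨G, hGs, hGq⟩ := hcover q hsm
  let G' : {G // G ∈ s} := ⟨G, hGs⟩
  let T := Localization.Away G
  have hle : Submonoid.powers G ≤ q.primeCompl := Submonoid.powers_le.2 hGq
  letI : Algebra T Q := (IsLocalization.Away.lift G (g := algebraMap A Q)
    (IsLocalization.map_units Q (⟨G, hGq⟩ : q.primeCompl))).toAlgebra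
  haveI : IsScalarTower A T Q := IsScalarTower.of_algebraMap_eq fun y => (IsLocalization.Away.lift_eq G _ y).symm
  haveI : IsScalarTower k T Q := IsScalarTower.of_algebraMap_eq fun y => by
    rw [IsScalarTower.algebraMap_apply k A T, ← IsScalarTower.algebraMap_apply A T Q,
      ← IsScalarTower.algebraMap_apply k A Q]
  haveI : IsLocalization (q.primeCompl.map (algebraMap A T)) Q :=
    IsLocalization.isLocalization_of_submonoid_le T Q (Submonoid.powers G) q.primeCompl hle
  haveI : Algebra.FormallyEtale T Q := Algebra.FormallyEtale.of_isLocalization (q.primeCompl.map (algebraMap A T))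
  let bQ : Module.Basis (Fin (dd G')) Q (Ω[Q⁄k]) :=
    ((bb G').baseChange Q).map (tensorKaehlerEquivOfFormallyEtale k T Q)
  obtain ⟨Q0, hQ0⟩ : ∃ Q0 : PrimeSpectrum T, PrimeSpectrum.comap (algebraMap A T) Q0 = ⟨q, inferInstance⟩ := by
    have h1 : (⟨q, inferInstance⟩ : PrimeSpectrum A) ∈ (PrimeSpectrum.basicOpen G : Set (PrimeSpectrum A)) := hGq
    rwa [← PrimeSpectrum.localization_away_comap_range T G] at h1
  obtain ⟨l, hl⟩ : ∃ l, coord x (bb G') a l ∉ Q0.asIdeal := by
    by_contra hh
    push Not at hh
    have hqb : (⟨q, inferInstance⟩ : PrimeSpectrum A) ∈ bad := Set.mem_iUnion.2 ⟨G', Q0, hh, hQ0⟩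
    exact hq (Ideal.mul_mem_right _ _ ((Ideal.IsPrime.prod_mem_iff (p := q)).2 ⟨_, hbad.mem_toFinset.2 hqb, hz1 _ hqb⟩))
  refine ⟨bQ.coord l, ?_⟩
  have h1 : bQ.coord l (D k Q (algebraMap A Q (h0 + algebraMap k A c))) = algebraMap T Q (coord x (bb G') a l) := by
    rw [IsScalarTower.algebraMap_apply A T Q, Module.Basis.coord_apply, Module.Basis.map_repr,
      LinearEquiv.trans_apply, tensorKaehlerEquivOfFormallyEtale_symm_D_algebraMap, Module.Basis.baseChange_repr_tmul,
      Algebra.smul_def, mul_one, repr_D]
  rw [h1]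
  obtain ⟨⟨w, t⟩, hw⟩ := IsLocalization.surj (Submonoid.powers G) (coord x (bb G') a l)
  have hwq : w ∉ q := by
    intro hwq
    have h2 : algebraMap A T w ∈ Q0.asIdeal := by
      have : w ∈ (PrimeSpectrum.comap (algebraMap A T) Q0).asIdeal := by rw [hQ0]; exact hwq
      exact this
    rw [← hw] at h2
    rcases Q0.isPrime.mem_or_mem h2 with h3 | h3
    · exact hl h3
    · exact Q0.isPrime.ne_top (Ideal.eq_top_of_isUnit_mem _ h3 (IsLocalization.map_units T t))
  have h4 := IsLocalization.map_units Q (⟨w, hwq⟩ : q.primeCompl)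
  rw [IsScalarTower.algebraMap_apply A T Q, ← hw, map_mul] at h4
  exact isUnit_of_mul_isUnit_left h4

end Groth.Agent.SmToGm

end
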