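import Groth.Agent.CIBertini.Generic
import Groth.Agent.HypSec.Chart
import Mathlib

/-!
For a family of functions with as many linear conditions as the dimension, the loci cut out by general members are finite.
-/

set_option autoImplicit false
set_option linter.style.haveILetI false

universe u

open MvPolynomial

noncomputable section

namespace Groth.Agent.SmToGm

variable {k : Type u} [Field k]

/-- The solutions of linear conditions with an invertible minor are parametrised by the free variables. -/
theorem exists_param {T : Type u} [CommRing T] [Algebra k T] [Algebra.FiniteType k T] {m r : ℕ}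
    (M : Matrix (Fin r) (Fin m) T) (cols : Fin r → Fin m) (hinj : Function.Injective cols)
    (hdet : IsUnit (M.submatrix id cols).det) :
    ∃ ψ : MvPolynomial (Fin m) k →ₐ[k] MvPolynomial {i : Fin m // i ∉ Finset.univ.image cols} T,
      ∀ (a : Fin m → k) {K : Type u} [CommRing K] (φ : T →+* K),
        (∀ l, φ (∑ i, algebraMap k T (a i) * M l i) = 0) →
        ∃ χ : MvPolynomial {i : Fin m // i ∉ Finset.univ.image cols} T →+* K,
          (∀ t, χ (C t) = φ t) ∧ ∀ p, χ (ψ p) = φ (algebraMap k T (eval a p)) := by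
  classical
  let S : Finset (Fin m) := Finset.univ.image cols
  let J := {i : Fin m // i ∉ S}
  let B := MvPolynomial J T
  let MS : Matrix (Fin r) (Fin r) B := (M.submatrix id cols).map C
  let w : Fin r → B := fun l => ∑ j : J, C (M l j.1) * X j
  let aS : Fin r → B := -(MS⁻¹.mulVec w)
  let aB : Fin m → B := fun i => if h : ∃ l, cols l = i then aS h.choose else
    X ⟨i, fun hi => h (by simpa [S] using hi)⟩
  let ψ : MvPolynomial (Fin m) k →ₐ[k] B := aeval aB
  refine ⟨ψ, fun a K _ φ hφ => ?_⟩
  let χ : B →+* K := eval₂Hom φ fun j => φ (algebraMap k T (a j.1))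
  have hχC : ∀ t, χ (C t) = φ t := fun t => eval₂Hom_C _ _ _
  refine ⟨χ, hχC, ?_⟩
  have hMSu : IsUnit MS.det := by
    have : MS.det = C ((M.submatrix id cols).det) := (RingHom.map_det C _).symm
    rw [this]; exact hdet.map C
  have hMv : MS.mulVec aS + w = 0 := by
    rw [show aS = -(MS⁻¹.mulVec w) from rfl, Matrix.mulVec_neg, Matrix.mulVec_mulVec, Matrix.mul_nonsing_inv _ hMSu,
      Matrix.one_mulVec, neg_add_cancel]
  have hker : (χ.mapMatrix (MS⁻¹) * (χ.mapMatrix MS)).mulVec
      (fun l => χ (aS l) - φ (algebraMap k T (a (cols l)))) = 0 := by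
    rw [← Matrix.mulVec_mulVec]
    refine (congrArg _ ?_).trans (Matrix.mulVec_zero _)
    funext l
    have h1 : χ (∑ j, MS l j * aS j + w l) = 0 := by
      have := congrArg χ (congrFun hMv l)
      simpa [Matrix.mulVec, dotProduct] using this
    have h2 := hφ l
    rw [map_sum, ← Finset.sum_add_sum_compl S, Finset.sum_image hinj.injOn,
      Finset.sum_subtype Sᶜ (fun j => Finset.mem_compl) (fun j => φ (algebraMap k T (a j) * M l j))] at h2
    simp only [w, map_add, map_sum, map_mul, MS, Matrix.map_apply, Matrix.submatrix_apply, id_eq, hχC,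
      show ∀ j : J, χ (X j) = φ (algebraMap k T (a j.1)) from fun j => eval₂Hom_X' _ _ _] at h1
    simp only [map_mul, mul_comm (φ (algebraMap k T (a _)))] at h2
    simp only [Matrix.mulVec, dotProduct, RingHom.mapMatrix_apply, MS, Matrix.map_apply, Matrix.submatrix_apply,
      id_eq, hχC, mul_sub, Finset.sum_sub_distrib, Pi.zero_apply]
    linear_combination h1 - h2
  rw [← map_mul, Matrix.nonsing_inv_mul _ hMSu, map_one, Matrix.one_mulVec] at hker
  have haB : ∀ i, χ (aB i) = φ (algebraMap k T (a i)) := by
    intro i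
    by_cases h : ∃ l, cols l = i
    · obtain ⟨l, rfl⟩ := h
      have hl : (⟨l, rfl⟩ : ∃ p, cols p = cols l).choose = l :=
        hinj (⟨l, rfl⟩ : ∃ p, cols p = cols l).choose_spec
      simp only [aB, dif_pos (⟨l, rfl⟩ : ∃ p, cols p = cols l), hl]
      exact sub_eq_zero.1 (congrFun hker l)
    · simp only [aB, dif_neg h]
      exact eval₂Hom_X' _ _ _
  intro p
  induction p using MvPolynomial.induction_on with
  | C c =>
    simp only [ψ, aeval_C, eval_C, IsScalarTower.algebraMap_apply k T B, MvPolynomial.algebraMap_eq]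
    exact hχC _
  | add p q hp hq => simp [map_add, hp, hq]
  | mul_X p i hp =>
    rw [map_mul, map_mul, hp, aeval_X, map_mul, map_mul, map_mul, eval_X]
    exact congrArg _ (haB i)

/-- An element is algebraic on the solutions for general parameters. -/
theorem exists_relation {T : Type u} [CommRing T] [Algebra k T] [Algebra.FiniteType k T] {m r : ℕ}
    (hd : ringKrullDim T ≤ r) (M : Matrix (Fin r) (Fin m) T) (cols : Fin r → Fin m)
    (hdet : IsUnit (M.submatrix id cols).det) (t : T) :
    ∃ g : MvPolynomial (Fin m) k, g ≠ 0 ∧ ∀ a : Fin m → k, eval a g ≠ 0 →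
      ∀ {K : Type u} [CommRing K] (φ : T →+* K), (∀ l, φ (∑ i, algebraMap k T (a i) * M l i) = 0) →
        ∃ p : Polynomial k, p ≠ 0 ∧ Polynomial.eval₂ (φ.comp (algebraMap k T)) (φ t) p = 0 := by
  classical
  rcases subsingleton_or_nontrivial T with hT | hT
  · exact ⟨1, one_ne_zero, fun a _ K _ φ _ => ⟨1, one_ne_zero, by
      rw [Polynomial.eval₂_one, ← map_one φ, Subsingleton.elim (1 : T) 0, map_zero]⟩⟩
  haveI : IsNoetherianRing T := Algebra.FiniteType.isNoetherianRing k T
  have hcols : Function.Injective cols := by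
    intro i j hij
    by_contra hne
    exact hdet.ne_zero (Matrix.det_zero_of_column_eq hne fun l => by simp [hij])
  obtain ⟨ψ, hψ⟩ := exists_param (k := k) M cols hcols hdet
  let B := MvPolynomial {i : Fin m // i ∉ Finset.univ.image cols} T
  haveI : Algebra.FiniteType k B := Algebra.FiniteType.trans (S := T) inferInstance inferInstance
  let Ψ : Polynomial (MvPolynomial (Fin m) k) →ₐ[k] B := Polynomial.aevalTower ψ (C t)
  have hnot : ¬ Function.Injective Ψ := by
    intro hinj
    have h := CIBertini.ringKrullDim_le_of_injective Ψ hinj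
    have hrm : r ≤ m := by simpa using Fintype.card_le_of_injective cols hcols
    rw [Polynomial.ringKrullDim_of_isNoetherianRing, MvPolynomial.ringKrullDim_of_isNoetherianRing,
      MvPolynomial.ringKrullDim_of_isNoetherianRing, ringKrullDim_eq_zero_of_field, zero_add,
      Nat.card_eq_fintype_card, Fintype.card_fin, Nat.card_eq_fintype_card, Fintype.card_subtype_compl,
      Fintype.card_coe, Fintype.card_fin, Finset.card_image_of_injective _ hcols, Finset.card_univ,
      Fintype.card_fin] at h
    have h' : ((m + 1 : ℕ) : WithBot ℕ∞) ≤ ((r + (m - r) : ℕ) : WithBot ℕ∞) := by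
      push_cast
      exact h.trans (add_le_add hd le_rfl)
    have h'' : m + 1 ≤ r + (m - r) := by exact_mod_cast h'
    omega
  obtain ⟨P, hP, hP0⟩ : ∃ P, Ψ P = 0 ∧ P ≠ 0 := by
    by_contra hh
    push Not at hh
    exact hnot ((injective_iff_map_eq_zero Ψ).2 hh)
  refine ⟨P.leadingCoeff, Polynomial.leadingCoeff_ne_zero.2 hP0, fun a ha K _ φ hφ => ?_⟩
  obtain ⟨χ, hχC, hχψ⟩ := hψ a φ hφ
  refine ⟨P.map (eval a), fun h0 => ha ?_, ?_⟩
  · have := congrArg (fun q => Polynomial.coeff q P.natDegree) h0
    rw [Polynomial.coeff_map, Polynomial.coeff_zero] at this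
    exact this
  · have key : ∀ Q : Polynomial (MvPolynomial (Fin m) k),
        χ (Ψ Q) = Polynomial.eval₂ (φ.comp (algebraMap k T)) (φ t) (Q.map (eval a)) := fun Q => by
      induction Q using Polynomial.induction_on' with
      | add p q hp hq => rw [map_add, map_add, hp, hq, Polynomial.map_add, Polynomial.eval₂_add]
      | monomial n c =>
        rw [Polynomial.map_monomial, Polynomial.eval₂_monomial, ← Polynomial.C_mul_X_pow_eq_monomial, map_mul,
          map_pow, map_mul, map_pow]
        simp only [Ψ, Polynomial.aevalTower_C, Polynomial.aevalTower_X, hχC, hχψ, RingHom.comp_apply]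
    rw [← key, hP, map_zero]

/-- General members of the family cut out finite schemes. -/
theorem exists_bound_finite {T : Type u} [CommRing T] [Algebra k T] [Algebra.FiniteType k T] {m r : ℕ}
    (hd : ringKrullDim T ≤ r) (M : Matrix (Fin r) (Fin m) T) (cols : Fin r → Fin m)
    (hdet : IsUnit (M.submatrix id cols).det) :
    ∃ g : MvPolynomial (Fin m) k, g ≠ 0 ∧ ∀ a : Fin m → k, eval a g ≠ 0 →
      Module.Finite k (T ⧸ Ideal.span (Set.range fun l => ∑ i, algebraMap k T (a i) * M l i)) := by
  classical
  obtain ⟨s, hs⟩ := Algebra.FiniteType.out (R := k) (A := T)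
  choose g hg0 hg using fun t : T => exists_relation (k := k) hd M cols hdet t
  refine ⟨∏ t ∈ s, g t, Finset.prod_ne_zero_iff.2 fun t _ => hg0 t, fun a ha => ?_⟩
  rw [map_prod, Finset.prod_ne_zero_iff] at ha
  let J := Ideal.span (Set.range fun l => ∑ i, algebraMap k T (a i) * M l i)
  let q : T →ₐ[k] T ⧸ J := Ideal.Quotient.mkₐ k J
  have hint : ∀ t ∈ s, IsIntegral k (q t) := fun t ht => by
    obtain ⟨p, hp0, hp⟩ := hg t a (ha t ht) (Ideal.Quotient.mk J) fun l =>
      Ideal.Quotient.eq_zero_iff_mem.2 (Ideal.subset_span ⟨l, rfl⟩)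
    refine IsAlgebraic.isIntegral ⟨p, hp0, ?_⟩
    rw [Polynomial.aeval_def]
    exact hp
  have hadj : Algebra.adjoin k ((q '' (s : Set T)) : Set (T ⧸ J)) = ⊤ := by
    rw [Algebra.adjoin_image, hs, Algebra.map_top, AlgHom.range_eq_top]
    exact Ideal.Quotient.mk_surjective
  refine ⟨?_⟩
  rw [← Algebra.top_toSubmodule, ← hadj]
  exact fg_adjoin_of_finite (s.finite_toSet.image _) fun x hx => by
    obtain ⟨t, ht, rfl⟩ := hx
    exact hint t ht

end Groth.Agent.SmToGm

end
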